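import Mathlib
import Cfsg.Agent.Small.Sieve
import Cfsg.Agent.Small.DegMod
import Cfsg.Agent.Small.FewSylow
import Cfsg.Agent.Small.Order5400
import Cfsg.Agent.S0496
import Cfsg.Agent.S0983

/-!
The orders of the non-abelian simple groups of order less than 6000.
-/

set_option autoImplicit false
set_option linter.style.haveILetI false
set_option linter.unusedSectionVars false

namespace Cfsg.Agent.DegG

open Subgroup Cfsg.Agent.Small Cfsg.Agent.Small.Sieve Cfsg.Agent.Char Cfsg.Agent.Block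

variable {G : Type*} [Group G] [Finite G]

open scoped IsMulCommutative in
/-- an element of an abelian Sylow subgroup of a perfect group central in its normaliser is trivial -/
theorem eq_one_of_central {p : ℕ} [Fact p.Prime] (hG : _root_.commutator G = ⊤) (P : Sylow p G)
    [IsMulCommutative (P : Subgroup G)] {z : G} (hz : z ∈ (P : Subgroup G))
    (h : ∀ n ∈ normalizer ((P : Subgroup G) : Set G), n * z = z * n) : z = 1 := by
  have key : ∀ (k : ℕ) (g₀ : G), g₀⁻¹ * z ^ k * g₀ ∈ (P : Subgroup G) →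
      g₀⁻¹ * z ^ k * g₀ = z ^ k := by
    intro k g₀ hg
    obtain ⟨n, hn, h2⟩ := P.conj_eq_normalizer_conj_of_mem (z ^ k) g₀ (pow_mem hz k) hg
    have h3 : Commute n (z ^ k) := (show Commute n z from h n hn).pow_right k
    rw [h2, mul_assoc, ← h3.eq, inv_mul_cancel_left]
  have h1 := MonoidHom.transfer_eq_pow (MonoidHom.id (P : Subgroup G)) z key
  have h2 : MonoidHom.transfer (MonoidHom.id (P : Subgroup G)) z = 1 := by
    have h3 := Abelianization.commutator_subset_ker (MonoidHom.transfer (MonoidHom.id (P : Subgroup G)))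
    rw [hG] at h3
    exact h3 (mem_top z)
  rw [h2] at h1
  have h4 : z ^ (P : Subgroup G).index = 1 := (congrArg Subtype.val h1).symm
  obtain ⟨k, hk⟩ := P.2 ⟨z, hz⟩
  have h5 : z ^ p ^ k = 1 := congrArg Subtype.val hk
  have h6 := Nat.dvd_gcd (orderOf_dvd_of_pow_eq_one h5) (orderOf_dvd_of_pow_eq_one h4)
  rw [((Nat.Prime.coprime_iff_not_dvd Fact.out).2 P.not_dvd_index).pow_left k, Nat.dvd_one,
    orderOf_eq_one_iff] at h6
  exact h6

/-- no simple group of order 1800, 2700 or 3600 -/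
theorem card_ne_25 [IsSimpleGroup G] {m : ℕ} (hm : m = 72 ∨ m = 108 ∨ m = 144) :
    Nat.card G ≠ 5 ^ 2 * m := by
  intro h0
  have hG : ¬ IsMulCommutative G := not_comm_of_card (by
    rw [h0]; exact Nat.not_prime_mul (by norm_num) (by omega))
  haveI : Fact (Nat.Prime 5) := ⟨by norm_num⟩
  have h5 : 5 ∣ Nat.card G := by rw [h0]; exact Dvd.intro (5 * m) (by ring)
  have hm5 : ¬ 5 ∣ m := by omega
  have hP : ∀ Q : Sylow 5 G, Nat.card (Q : Subgroup G) = 5 ^ 2 := card_sylow_subgroup h0 hm5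
  have h1 := card_sylow_dvd h0 hm5
  have h2 := card_sylow_modEq_one 5 G
  have h3 := card_sylow_ne_one hG h5
  have hk : Nat.card (Sylow 5 G) = 36 := by
    obtain ⟨P⟩ : Nonempty (Sylow 5 G) := inferInstance
    have h4 : ¬ Nat.card (Sylow 5 G) < 5 ^ 2 := fun h => by
      have := card_sylow_eq_prime_of_simple h3 h P
      rw [hP] at this
      omega
    generalize Nat.card (Sylow 5 G) = k at *
    have h7 : k ∈ Nat.divisors 432 := Nat.mem_divisors.2 ⟨h1.trans (by rcases hm with rfl | rfl | rfl <;> norm_num), by norm_num⟩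
    have h8 : ∀ k ∈ Nat.divisors 432, k % 5 = 1 % 5 → ¬ k < 5 ^ 2 → k = 36 ∨ k = 216 := by decide
    rcases h8 k h7 h2 h4 with h | rfl
    · exact h
    · omega
  obtain ⟨P, R, hPR, hD, hPC, hRC⟩ := exists_inf_of_sq h0 hm5 (by rw [hk]; decide)
  set D : Subgroup G := (P : Subgroup G) ⊓ R with hDdef
  have hDb : D ≠ ⊥ := by intro h; rw [h, card_bot] at hD; omega
  have hNt : normalizer (D : Set G) ≠ ⊤ := normalizer_inf_ne_top hG P R hDb
  have hCN : centralizer (D : Set G) ≤ normalizer (D : Set G) := centralizer_le_normalizer _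
  have hidx : ∀ H : Subgroup G, H ≠ ⊤ → 10 ≤ H.index := by
    intro H hH
    have e8 := two_mul_card_dvd_factorial hG H hH
    by_contra h
    have := (Dvd.dvd.mul_left (Dvd.intro m h0.symm) 2).trans
      (e8.trans (Nat.factorial_dvd_factorial (n := 9) (by omega)))
    exact absurd this (by decide)
  set C := centralizer (D : Set G) with hC
  have hCt : C ≠ ⊤ := fun h => hNt (top_le_iff.1 (h ▸ hCN))
  obtain ⟨n, e1, e2, e3, j, hj⟩ := exists_dvd_card_of_two_sylow hPR hPC hRC
  have e7 := C.card_mul_index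
  have e11 := hidx C hCt
  rw [hP P] at hj
  rw [h0, hj] at e7
  have e10 : n * (j * C.index) = m := by nlinarith
  have hj0 : 0 < j := Nat.pos_of_ne_zero (by rintro rfl; simp at e10; omega)
  have e12 : n = 6 := by
    have h9 : n * 10 ≤ m := by nlinarith [Nat.mul_le_mul hj0 e11]
    have h10 : n ∣ m := Dvd.intro _ e10
    have : n = 6 ∨ n = 11 := by omega
    rcases this with h | rfl
    · exact h
    · omega
  rw [e12] at e3 hj e10
  have e13 : j = 2 := by
    have h9 : j < 3 := by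
      have : m ≤ 144 := by omega
      nlinarith
    have : j ≠ 1 := by
      rintro rfl
      have := card_sylow_dvd_half (G := C) (p := 5) (m := 75) (by norm_num) hj (by norm_num)
      rw [← e3] at this
      omega
    omega
  subst e13
  have hm' : m = 144 := by omega
  subst hm'
  have e14 : C.index = 12 := by omega
  have hNC : normalizer (D : Set G) = C := by
    have h9 := relIndex_mul_index hCN
    have h10 := hidx _ hNt
    have h11 : C.relIndex (normalizer (D : Set G)) = 1 := by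
      rw [e14] at h9
      have : C.relIndex (normalizer (D : Set G)) < 2 := by nlinarith
      have : C.relIndex (normalizer (D : Set G)) ≠ 0 := by rintro h; simp [h] at h9
      omega
    exact le_antisymm (relIndex_eq_one.1 h11) hCN
  set N := normalizer ((P : Subgroup G) : Set G) with hN
  have hN1 : Nat.card N = 100 := by
    have := card_sylow_mul_card_normalizer P
    rw [hk, h0, ← hN] at this
    omega
  have hN0 : Nat.card ↥(C ⊓ N) = 50 := by
    have e5 := card_sylow_mul_card_normalizer (P.subtype hPC)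
    rw [← e3, hj] at e5
    have e6 : normalizer (((P.subtype hPC : Sylow 5 C) : Subgroup C) : Set C) = N.subgroupOf C :=
      (subgroupOf_normalizer_eq hPC).symm
    rw [e6, ← inf_subgroupOf_left, Nat.card_congr (subgroupOfEquivOfLe inf_le_left).toEquiv] at e5
    omega
  have hrel : C.relIndex N = 2 := by
    have := (C.subgroupOf N).card_mul_index
    rw [← inf_subgroupOf_right, Nat.card_congr (subgroupOfEquivOfLe inf_le_right).toEquiv, hN0,
      hN1, inf_subgroupOf_right] at this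
    unfold relIndex
    omega
  obtain ⟨u, hu, hu1, hu2⟩ := relIndex_eq_two_iff_exists_notMem_and'.1 hrel
  haveI : IsMulCommutative (P : Subgroup G) := IsPGroup.isMulCommutative_of_card_eq_prime_sq (hP P)
  obtain ⟨⟨d, hd0⟩, hd⟩ := exists_prime_orderOf_dvd_card' (G := D) 5 (by rw [hD])
  rw [orderOf_mk] at hd
  have hdD : zpowers d = D :=
    eq_of_le_of_card_ge (zpowers_le.2 hd0) (by rw [hD, Nat.card_zpowers, hd])
  have hmem : ∀ c : G, c ∈ C ↔ Commute c d := fun c => by
    rw [hC, ← hdD, centralizer_zpowers, mem_centralizer_singleton_iff]; rfl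
  have hdP : d ∈ (P : Subgroup G) := hd0.1
  have hdP' : u * d * u⁻¹ ∈ (P : Subgroup G) := (mem_normalizer_iff.1 hu _).1 hdP
  have hc1 : ∀ c ∈ N, c ∈ C → Commute c (d * (u * d * u⁻¹)) := by
    intro c hc hcC
    refine ((hmem c).1 hcC).mul_right ?_
    have h9 : u⁻¹ * c * u ∈ C := by
      rcases hu2 _ (N.mul_mem (N.mul_mem (N.inv_mem hu) hc) hu) with h | h
      · rw [← mul_assoc, mul_inv_cancel_left] at h
        exact absurd ((C.mul_mem_cancel_left hcC).1 h) hu1
      · exact h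
    have h10 := ((hmem _).1 h9).eq
    change c * (u * d * u⁻¹) = u * d * u⁻¹ * c
    calc c * (u * d * u⁻¹) = u * (u⁻¹ * c * u * d) * u⁻¹ := by group
      _ = u * d * u⁻¹ * c := by rw [h10]; group
  have hc2 : Commute u (d * (u * d * u⁻¹)) := by
    have h9 := ((hmem _).1 ((hu2 u hu).resolve_right hu1)).eq
    have h10 := ((hmem _).1 (hPC hdP')).eq
    change u * (d * (u * d * u⁻¹)) = d * (u * d * u⁻¹) * u
    calc u * (d * (u * d * u⁻¹)) = u * d * u⁻¹ * (u * u * d) * u⁻¹ := by group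
      _ = (u * d * u⁻¹ * d) * u := by rw [h9]; group
      _ = d * (u * d * u⁻¹) * u := by rw [h10]
  have hz := eq_one_of_central (commutator_eq_top hG) P (mul_mem hdP hdP') fun b hb => by
    rcases hu2 b hb with h | h
    · have := hc2.inv_left.mul_left (hc1 _ (N.mul_mem hu hb) h)
      rwa [inv_mul_cancel_left] at this
    · exact hc1 b hb h
  refine hu1 (hNC ▸ ?_)
  rw [← hdD, mem_normalizer_zpowers_iff, eq_inv_of_mul_eq_one_right hz]
  exact inv_mem (mem_zpowers _)

theorem chk7 : primeKill 61 3360 7 A0 [] (fun _ _ c => c == 2) = true := by decide +kernel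

theorem chk5 : primeKill 61 3360 5 (fun q b d => A0 q b d && (!(q == 7) || Nat.ble 14 d)) [(7, 1)]
    (fun _ _ _ => false) = true := by decide +kernel

theorem card_ne_3360 [IsSimpleGroup G] : Nat.card G ≠ 3360 := by
  intro hn
  have hG : ¬ IsMulCommutative G := not_comm_of_card (by rw [hn]; norm_num)
  have : Fact (Nat.Prime 7) := ⟨by norm_num⟩
  have : Fact (Nat.Prime 5) := ⟨by norm_num⟩
  have : Fact (Nat.Prime 2) := ⟨by norm_num⟩
  obtain ⟨P⟩ : Nonempty (Sylow 7 G) := inferInstance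
  obtain ⟨Q⟩ : Nonempty (Sylow 5 G) := inferInstance
  obtain ⟨k, e, c, h1, -, -, -, -, -, -, -, h4, -, h5, -, -⟩ :=
    primeKill_sound hG (admits_A0 hG) (hn ▸ chk7) P
  obtain rfl : c = 2 := by simpa using h1
  obtain ⟨x, hx, hxP⟩ := exists_zpowers_eq_sylow P h4
  rw [← hxP, centralizer_zpowers] at h5
  obtain ⟨y, hy⟩ := exists_prime_orderOf_dvd_card' (G := centralizer ({x} : Set G)) 2
    (by rw [h5]; norm_num)
  have hy' : orderOf (y : G) = 2 := by rw [orderOf_coe, hy]
  have hy1 : (y : G) ≠ 1 := fun h => by rw [h, orderOf_one] at hy'; omega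
  have hA := (admits_A0 hG).refine 7 (fun d => Nat.ble 14 d) fun M hM χ hχ h1 => by
    obtain ⟨D, hD, h2⟩ := exists_b0Data_norm (commutator_eq_top hG) (by norm_num) P hxP.symm hx hM
    rw [hD] at hχ
    rw [Nat.ble_eq]
    rcases hχ with h | h
    · exact stanton_X hG D hx y.2 hy1 (by rw [hy']; norm_num) h h1
    · rw [charDegree_eq_of_eq (D.degY χ h)]
      exact stanton_Y hG D hx h2 y.2 hy1 (by rw [hy']; norm_num)
  obtain ⟨k, e, c, h1, -⟩ := primeKill_sound hG hA (hn ▸ chk5) Q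
  exact absurd h1 (by simp)

def certs : List (ℕ × Cert) := [
  (1104, .pr 23 []), (1116, .sq 31 1), (1120, .sq 2 5), (1128, .sq 47 1), (1136, .two 2 4 71 1),
  (1140, .pr 19 []), (1152, .two 2 7 3 2), (1164, .sq 97 1), (1168, .two 2 4 73 1),
  (1176, .sq 7 2), (1184, .two 2 5 37 1), (1188, .pr 11 []), (1200, .sq 5 2), (1212, .sq 101 1),
  (1216, .two 2 6 19 1), (1224, .pr 17 []), (1232, .pr 11 []), (1236, .sq 103 1),
  (1248, .sq 13 1), (1260, .pr 7 []), (1264, .two 2 4 79 1), (1272, .sq 53 1),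
  (1280, .two 2 8 5 1), (1284, .sq 107 1), (1288, .sq 23 1), (1296, .two 2 4 3 4),
  (1308, .sq 109 1), (1312, .two 2 5 41 1), (1320, .pr 11 []), (1328, .two 2 4 83 1),
  (1332, .sq 37 1), (1344, .pr 7 [(2, 6)]), (1356, .sq 113 1), (1360, .sq 17 1),
  (1368, .sq 19 1), (1376, .two 2 5 43 1), (1380, .sq 23 1), (1392, .sq 29 1), (1400, .sq 5 2),
  (1404, .pr 13 []), (1408, .two 2 7 11 1), (1416, .sq 59 1), (1424, .two 2 4 89 1),
  (1428, .sq 17 1), (1440, .pr 5 []), (1452, .sq 11 2), (1456, .sq 7 1), (1464, .sq 61 1),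
  (1472, .two 2 6 23 1), (1476, .sq 41 1), (1488, .sq 31 1), (1500, .sq 5 3),
  (1504, .two 2 5 47 1), (1512, .pr 7 []), (1520, .pr 19 []), (1524, .sq 127 1),
  (1536, .two 2 9 3 1), (1548, .sq 43 1), (1552, .two 2 4 97 1), (1560, .pr 13 []),
  (1568, .two 2 5 7 2), (1572, .sq 131 1), (1584, .pr 11 []), (1596, .sq 19 1),
  (1600, .two 2 6 5 2), (1608, .sq 67 1), (1616, .two 2 4 101 1), (1620, .pr 5 []),
  (1624, .sq 29 1), (1632, .sq 17 1), (1644, .sq 137 1), (1648, .two 2 4 103 1),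
  (1656, .pr 23 []), (1664, .two 2 7 13 1), (1668, .sq 139 1), (1680, .pr 5 []),
  (1692, .sq 47 1), (1696, .two 2 5 53 1), (1704, .sq 71 1), (1712, .two 2 4 107 1),
  (1716, .pr 3 []), (1728, .two 2 6 3 3), (1736, .sq 31 1), (1740, .pr 29 []),
  (1744, .two 2 4 109 1), (1752, .sq 73 1), (1760, .sq 11 1), (1764, .sq 7 2), (1776, .sq 37 1),
  (1788, .sq 149 1), (1792, .two 2 8 7 1), (1808, .two 2 4 113 1), (1812, .sq 151 1),
  (1824, .pr 19 []), (1836, .pr 17 []), (1840, .sq 23 1), (1848, .pr 11 []),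
  (1856, .two 2 6 29 1), (1860, .sq 31 1), (1872, .pr 13 []), (1884, .sq 157 1),
  (1888, .two 2 5 59 1), (1896, .sq 79 1), (1904, .sq 17 1), (1908, .sq 53 1), (1920, .sq 2 7),
  (1932, .sq 23 1), (1936, .two 2 4 11 2), (1944, .two 2 3 3 5), (1952, .two 2 5 61 1),
  (1956, .sq 163 1), (1960, .sq 7 2), (1968, .sq 41 1), (1980, .pr 11 []), (1984, .two 2 6 31 1),
  (1992, .sq 83 1), (2000, .two 2 4 5 3), (2004, .sq 167 1), (2016, .pr 7 []), (2028, .sq 13 2),
  (2032, .two 2 4 127 1), (2040, .pr 17 []), (2048, .two 2 11 2 0), (2052, .sq 19 1),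
  (2064, .sq 43 1), (2072, .sq 37 1), (2076, .sq 173 1), (2080, .pr 13 []), (2088, .sq 29 1),
  (2096, .two 2 4 131 1), (2100, .pr 7 []), (2112, .pr 11 []), (2124, .sq 59 1),
  (2128, .sq 19 1), (2136, .sq 89 1), (2144, .two 2 5 67 1), (2148, .sq 179 1),
  (2160, .pr 5 [(2, 4)]), (2172, .sq 181 1), (2176, .two 2 7 17 1), (2184, .pr 13 []),
  (2192, .two 2 4 137 1), (2196, .sq 61 1), (2208, .pr 23 []), (2220, .sq 37 1),
  (2224, .two 2 4 139 1), (2232, .sq 31 1), (2240, .sq 2 6), (2244, .sq 17 1), (2256, .pr 47 []),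
  (2268, .pr 7 []), (2272, .two 2 5 71 1), (2280, .pr 19 []), (2288, .sq 13 1),
  (2292, .sq 191 1), (2296, .sq 41 1), (2304, .two 2 8 3 2), (2316, .sq 193 1), (2320, .sq 29 1),
  (2328, .sq 97 1), (2336, .two 2 5 73 1), (2340, .sq 13 1), (2352, .sq 7 2), (2364, .sq 197 1),
  (2368, .two 2 6 37 1), (2376, .pr 11 []), (2384, .two 2 4 149 1), (2388, .sq 199 1),
  (2400, .pr 3 [(2, 5)]), (2408, .sq 43 1), (2412, .sq 67 1), (2416, .two 2 4 151 1),
  (2424, .sq 101 1), (2432, .two 2 7 19 1), (2436, .sq 29 1), (2460, .sq 41 1),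
  (2464, .pr 11 []), (2472, .sq 103 1), (2480, .sq 31 1), (2484, .sq 23 1), (2496, .sq 13 1),
  (2508, .sq 19 1), (2512, .two 2 4 157 1), (2528, .two 2 5 79 1), (2532, .sq 211 1),
  (2544, .sq 53 1), (2556, .sq 71 1), (2560, .two 2 9 5 1), (2568, .sq 107 1), (2576, .sq 23 1),
  (2580, .sq 43 1), (2592, .two 2 5 3 4), (2604, .sq 31 1), (2608, .two 2 4 163 1),
  (2616, .sq 109 1), (2624, .two 2 6 41 1), (2628, .sq 73 1), (2632, .sq 47 1),
  (2640, .pr 11 []), (2652, .sq 13 1), (2656, .two 2 5 83 1), (2664, .sq 37 1),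
  (2672, .two 2 4 167 1), (2676, .sq 223 1), (2688, .pr 7 []), (2704, .two 2 4 13 2),
  (2712, .sq 113 1), (2720, .sq 17 1), (2724, .sq 227 1), (2736, .sq 19 1), (2744, .two 2 3 7 3),
  (2748, .sq 229 1), (2752, .two 2 6 43 1), (2760, .pr 23 []), (2768, .two 2 4 173 1),
  (2772, .pr 11 []), (2784, .sq 29 1), (2796, .sq 233 1), (2800, .sq 5 2), (2808, .pr 13 []),
  (2816, .two 2 8 11 1), (2820, .sq 47 1), (2832, .sq 59 1), (2844, .sq 79 1),
  (2848, .two 2 5 89 1), (2856, .sq 17 1), (2864, .two 2 4 179 1), (2868, .sq 239 1),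
  (2880, .pr 5 []), (2892, .sq 241 1), (2896, .two 2 4 181 1), (2904, .sq 11 2), (2912, .sq 7 1),
  (2916, .two 2 2 3 6), (2928, .sq 61 1), (2940, .sq 7 2), (2944, .two 2 7 23 1),
  (2952, .sq 41 1), (2960, .sq 37 1), (2964, .sq 13 1), (2968, .sq 53 1), (2976, .pr 31 []),
  (2988, .sq 83 1), (2992, .sq 17 1), (3000, .sq 5 3), (3008, .two 2 6 47 1), (3012, .sq 251 1),
  (3024, .pr 7 []), (3036, .sq 23 1), (3040, .pr 19 []), (3048, .sq 127 1),
  (3056, .two 2 4 191 1), (3060, .pr 17 []), (3072, .two 2 10 3 1), (3080, .pr 11 []),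
  (3084, .sq 257 1), (3088, .two 2 4 193 1), (3096, .sq 43 1), (3104, .two 2 5 97 1),
  (3108, .sq 37 1), (3120, .pr 13 []), (3132, .sq 29 1), (3136, .two 2 6 7 2), (3144, .sq 131 1),
  (3152, .two 2 4 197 1), (3156, .sq 263 1), (3168, .pr 11 []), (3180, .sq 53 1),
  (3184, .two 2 4 199 1), (3192, .sq 19 1), (3200, .two 2 7 5 2), (3204, .sq 89 1),
  (3216, .sq 67 1), (3228, .sq 269 1), (3232, .two 2 5 101 1), (3240, .pr 5 []),
  (3248, .sq 29 1), (3252, .sq 271 1), (3264, .sq 17 1), (3276, .pr 13 []), (3280, .sq 41 1),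
  (3288, .sq 137 1), (3296, .two 2 5 103 1), (3300, .pr 11 []), (3304, .sq 59 1),
  (3312, .pr 23 []), (3324, .sq 277 1), (3328, .two 2 8 13 1), (3336, .sq 139 1),
  (3344, .sq 19 1), (3348, .sq 31 1), (3372, .sq 281 1), (3376, .two 2 4 211 1),
  (3384, .sq 47 1), (3392, .two 2 6 53 1), (3396, .sq 283 1), (3408, .sq 71 1), (3416, .sq 61 1),
  (3424, .two 2 5 107 1), (3432, .pr 13 []), (3440, .sq 43 1), (3444, .pr 41 []),
  (3456, .two 2 7 3 3), (3468, .sq 17 2), (3472, .sq 31 1), (3480, .pr 29 []),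
  (3488, .two 2 5 109 1), (3492, .sq 97 1), (3504, .sq 73 1), (3516, .sq 293 1),
  (3520, .pr 11 []), (3528, .sq 7 2), (3536, .sq 13 1), (3540, .pr 59 []), (3552, .sq 37 1),
  (3564, .pr 11 []), (3568, .two 2 4 223 1), (3576, .sq 149 1), (3584, .two 2 9 7 1),
  (3588, .sq 23 1), (3612, .sq 43 1), (3616, .two 2 5 113 1), (3624, .sq 151 1),
  (3632, .two 2 4 227 1), (3636, .sq 101 1), (3640, .pr 13 [])]

theorem chk : rangeCheck 61 1096 [1800, 2448, 2520, 2700, 3360, 3420, 3600] certs 637 = true := by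
  decide +kernel

/-- the orders of the non-abelian simple groups of order less than 6000 -/
theorem card_lt_6000 [IsSimpleGroup G] (hG : ¬ IsMulCommutative G) (h : Nat.card G < 6000) :
    Nat.card G = 60 ∨ Nat.card G = 168 ∨ Nat.card G = 360 ∨ Nat.card G = 504 ∨ Nat.card G = 660 ∨
      Nat.card G = 1092 ∨ Nat.card G = 2448 ∨ Nat.card G = 2520 ∨ Nat.card G = 3420 ∨
      Nat.card G = 4080 ∨ Nat.card G = 5616 := by
  rcases Nat.lt_or_ge 1092 (Nat.card G) with h1 | h1
  swap
  · have := S0496.result hG h1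
    omega
  rcases Nat.lt_or_ge 3640 (Nat.card G) with h2 | h2
  · have := S0983.result hG h2 (by omega)
    omega
  have h3 := pre_of_simple hG
  have h4 := rangeCheck_sound hG (by norm_num) _ chk (by omega) (by omega)
  have h5 := card_ne_25 (G := G) (m := 72) (by simp)
  have h6 := card_ne_25 (G := G) (m := 108) (by simp)
  have h7 := card_ne_25 (G := G) (m := 144) (by simp)
  have h8 := card_ne_3360 (G := G)
  simp only [List.mem_cons, List.not_mem_nil, or_false] at h4
  omega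

end Cfsg.Agent.DegG
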