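import Mathlib
import Cfsg.Prelude.Def_DegreeGraph
import Cfsg.Agent.Char.Ito
import Cfsg.Agent.Char.Quot
import Cfsg.Agent.Char.Triple
import Cfsg.Agent.FGS.SylowCount
import Cfsg.Agent.Solv.CoprimeSylow
import Cfsg.Agent.Grp.MinNormal
import Cfsg.Agent.PLocal.AmbSyl
import Cfsg.Agent.Small.Tools
import Cfsg.Agent.S0721

/-!
Tools for the character degree graph: Itô's theorem, normal sections, and the top chief factor
of the normal closure of a Sylow subgroup of prime order.
-/

set_option autoImplicit false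
set_option linter.style.haveILetI false
set_option linter.unusedSectionVars false

namespace Cfsg.Agent.DegG

open Subgroup Cfsg.Agent.Char Cfsg.Agent.PLocal.Amb

variable {G : Type*} [Group G] [Finite G]

theorem dvd_index_of_mem {d : ℕ} (hd : d ∈ charDegrees G) (A : Subgroup G) [A.Normal]
    [IsMulCommutative A] : d ∣ A.index := by
  obtain ⟨χ, rfl⟩ := hd
  exact χ.2.deg_dvd_index_of_comm (coe_charDegree_irr χ).symm A fun a ha b hb =>
    congrArg Subtype.val (mul_comm' (⟨a, ha⟩ : A) ⟨b, hb⟩)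

/-- Itô's theorem -/
theorem dvd_index_of_mem_primes {p : ℕ} (hp : p ∈ degreePrimes G) (A : Subgroup G) [A.Normal]
    [IsMulCommutative A] : p ∣ A.index :=
  let ⟨_, _, hd, h⟩ := hp
  h.trans (dvd_index_of_mem hd A)

theorem not_normal_of_mem {p m : ℕ} [Fact p.Prime] (hp : p ∈ degreePrimes G)
    (hG : Nat.card G = p * m) (hm : ¬ p ∣ m) (P : Sylow p G) : ¬ (P : Subgroup G).Normal := by
  intro h
  haveI := isCyclic_of_prime_card (p := p) (α := (P : Subgroup G))
    (by simpa using Small.card_sylow_subgroup (k := 1) (by simpa using hG) hm P)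
  exact P.not_dvd_index (dvd_index_of_mem_primes hp P)

/-- degrees of a normal section divide degrees of the group -/
theorem exists_dvd_of_section (K : Subgroup G) [K.Normal] {T : Type*} [Group T] (f : K →* T)
    (hf : Function.Surjective f) {d : ℕ} (hd : d ∈ charDegrees T) :
    ∃ d' ∈ charDegrees G, d ∣ d' := by
  haveI := Fintype.ofFinite G
  haveI := Fintype.ofFinite K
  obtain ⟨ψ, rfl⟩ := hd
  obtain ⟨χ, hχ, h⟩ := exists_irr_over K (inflateIrr f hf ψ).2
  obtain ⟨e, he, -⟩ := exists_deg_eq_mul_dvd_index K (inflateIrr f hf ψ).2 hχ h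
  refine ⟨_, ⟨⟨χ, hχ⟩, rfl⟩, e, ?_⟩
  rw [← charDegree_inflateIrr f hf]
  refine charDegree_eq_of_one_eq ?_
  change χ 1 = _
  rw [he, Nat.cast_mul, coe_charDegree_irr, mul_comm]

theorem charDegrees_equiv {H : Type*} [Group H] (e : G ≃* H) : charDegrees G = charDegrees H := by
  ext d
  constructor
  · rintro ⟨χ, rfl⟩
    exact ⟨(irrCongr e).symm χ, charDegree_comp (χ := (χ : G → ℂ)) e.symm.toMonoidHom⟩
  · rintro ⟨χ, rfl⟩
    exact ⟨irrCongr e χ, charDegree_comp (χ := (χ : H → ℂ)) e.toMonoidHom⟩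

variable {p : ℕ} [hp : Fact p.Prime]

/-- coprime action of a Sylow subgroup on a normal subgroup -/
theorem exists_pow_of_dvd_relIndex (N : Subgroup G) [N.Normal] (hN : ¬ p ∣ Nat.card N)
    (P : Sylow p G) {r : ℕ} (hr : r.Prime)
    (h : r ∣ (normalizer ((P : Subgroup G) : Set G)).relIndex N) :
    ∃ i, 0 < i ∧ r ^ i ∣ Nat.card N ∧ r ^ i % p = 1 := by
  haveI := Fact.mk hr
  have := P.isPGroup'.isNilpotent
  obtain ⟨T, hT⟩ := Solv.exists_invariant_sylow (P : Subgroup G) N (by simp [normalizer_eq_top])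
    (P.isPGroup'.exists_card_eq.elim fun k hk => hk ▸
      ((Nat.Prime.coprime_iff_not_dvd Fact.out).2 hN).pow_left k) (Or.inl inferInstance) r
  have h1 := isSyl_map_subtype T
  generalize (T : Subgroup N).map N.subtype = T at hT h1
  obtain ⟨j, hj⟩ := h1.pgrp.exists_card_eq
  have h2 := FGS.card_sylow_subgroup (le_sup_right : (P : Subgroup G) ≤ T ⊔ P) P.isPGroup'
    fun hd => P.not_dvd_index (hd.trans (relIndex_dvd_index_of_le le_sup_right))
  rw [FGS.relIndex_sup_of_le le_normalizer hT] at h2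
  obtain ⟨i, hi, e⟩ := (Nat.dvd_prime_pow hr).1
    (hj ▸ relIndex_dvd_card (normalizer ((P : Subgroup G) : Set G)) T)
  have h3 := card_sylow_modEq_one p (T ⊔ P : Subgroup G)
  rw [h2, e] at h3
  refine ⟨i, Nat.pos_of_ne_zero ?_, (pow_dvd_pow r hi).trans (hj ▸ card_dvd_of_le h1.le), ?_⟩
  · rintro rfl
    exact h1.not_dvd_relIndex (h.trans (relIndex_dvd_of_le_left N (relIndex_eq_one.1 e)))
  · rw [h3, Nat.mod_eq_of_lt hp.out.one_lt]

theorem le_normalizer_of_coprime (N : Subgroup G) [N.Normal] (hN : ¬ p ∣ Nat.card N)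
    (P : Sylow p G) (h : ∀ d, d ∣ Nat.card N → IsPrimePow d → d % p ≠ 1) :
    N ≤ normalizer ((P : Subgroup G) : Set G) := by
  by_contra h1
  obtain ⟨r, hr, h2⟩ := Nat.exists_prime_and_dvd (mt relIndex_eq_one.1 h1)
  obtain ⟨i, h3, h4, h5⟩ := exists_pow_of_dvd_relIndex N hN P hr h2
  exact h _ h4 ⟨r, i, hr.prime, h3, rfl⟩ h5

theorem le_centralizer_of_coprime (N : Subgroup G) [hn : N.Normal] (hN : ¬ p ∣ Nat.card N)
    (P : Sylow p G) (h : N ≤ normalizer ((P : Subgroup G) : Set G)) :
    normalClosure ((P : Subgroup G) : Set G) ≤ centralizer (N : Set G) := by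
  refine normalClosure_le_normal fun x hx => ?_
  have h1 : Disjoint N (P : Subgroup G) := by
    obtain ⟨k, hk⟩ := P.isPGroup'.exists_card_eq
    exact disjoint_of_coprime_natCard (by
      rw [hk]; exact (((Nat.Prime.coprime_iff_not_dvd hp.out).2 hN).symm).pow_right k)
  intro y hy
  have h2 : y * x * y⁻¹ * x⁻¹ ∈ N ⊓ (P : Subgroup G) := by
    refine ⟨?_, (P : Subgroup G).mul_mem ((mem_normalizer_iff.1 (h hy) x).1 hx)
      ((P : Subgroup G).inv_mem hx)⟩
    have := N.mul_mem hy (hn.conj_mem _ (N.inv_mem hy) x)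
    simpa [mul_assoc] using this
  rw [h1.eq_bot, mem_bot] at h2
  rwa [mul_inv_eq_one, mul_inv_eq_iff_eq_mul] at h2

/-- a Sylow subgroup normal in a normal subgroup is normal -/
theorem normal_of_le_normalizer (P : Sylow p G) (K : Subgroup G) [K.Normal]
    (h1 : (P : Subgroup G) ≤ K) (h2 : K ≤ normalizer ((P : Subgroup G) : Set G)) :
    (P : Subgroup G).Normal := by
  exact normalizer_eq_top_iff.1 ((sup_eq_left.2 h2).symm.trans (Sylow.normalizer_sup_eq_top' P h1))

omit hp in
/-- the top chief factor of a normal subgroup -/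
theorem exists_chief (K : Subgroup G) [K.Normal] (hK : K ≠ ⊥) :
    ∃ (N : Subgroup G) (_ : N.Normal), N < K ∧ ∃ (T : Type) (_ : Group T) (_ : Finite T) (m : ℕ)
      (f : K →* (Fin m → T)), IsSimpleGroup T ∧ 0 < m ∧ Function.Surjective f ∧
      (∀ x : K, f x = 1 ↔ (x : G) ∈ N) ∧ Nat.card K = Nat.card T ^ m * Nat.card N := by
  obtain ⟨N, ⟨hN, hNK⟩, hmax⟩ := Set.Finite.exists_maximal
    (s := {N : Subgroup G | N.Normal ∧ N < K}) (Set.toFinite _)
    ⟨⊥, inferInstance, bot_lt_iff_ne_bot.2 hK⟩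
  let π := QuotientGroup.mk' N
  have hs : Function.Surjective π := QuotientGroup.mk'_surjective N
  haveI : (K.map π).Normal := Normal.map inferInstance π hs
  have hc : (K.map π).comap π = K := by
    rw [comap_map_eq, QuotientGroup.ker_mk', sup_eq_left.2 hNK.le]
  obtain ⟨T, _, m, hT, hm, ⟨e⟩⟩ := S0721.result (K.map π) (by
    intro h
    rw [h, MonoidHom.comap_bot, QuotientGroup.ker_mk'] at hc
    exact hNK.ne hc) (by
    intro M hM hMK
    have h1 : M.comap π ≤ K := hc ▸ comap_mono hMK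
    have h2 : N ≤ M.comap π := fun x hx => by
      rw [mem_comap, show π x = 1 from (QuotientGroup.eq_one_iff x).2 hx]; exact one_mem _
    rcases h1.lt_or_eq with h | h
    · left
      have := hmax ⟨hM.comap π, h⟩ h2
      rw [← map_comap_eq_self_of_surjective hs M, eq_bot_iff]
      rintro _ ⟨x, hx, rfl⟩
      exact (QuotientGroup.eq_one_iff x).2 (this hx)
    · right
      rw [← h, map_comap_eq_self_of_surjective hs])
  have : Finite (Fin m → T) := Finite.of_equiv _ e.toEquiv
  have : Finite T := Finite.of_injective (fun (t : T) (_ : Fin m) => t)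
    fun _ _ h => congrFun h ⟨0, hm⟩
  refine ⟨N, hN, hNK, T, _, inferInstance, m, e.toMonoidHom.comp (π.subgroupMap K), hT, hm,
    e.surjective.comp (π.subgroupMap_surjective K), fun x => ?_, ?_⟩
  · change e _ = 1 ↔ _
    rw [map_eq_one_iff _ e.injective, ← QuotientGroup.eq_one_iff]
    exact Subtype.ext_iff
  · rw [← hc, Grp.card_comap_mk', Nat.card_congr e.toEquiv, Nat.card_fun]
    simp

/-- the data of the top section of the normal closure of a Sylow subgroup -/
structure Top (P : Sylow p G) (N : Subgroup G) (T : Type) [Group T]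
    (f : normalClosure ((P : Subgroup G) : Set G) →* T) : Prop where
  normal : N.Normal
  lt : N < normalClosure ((P : Subgroup G) : Set G)
  simple : IsSimpleGroup T
  surj : Function.Surjective f
  ker : ∀ x, f x = 1 ↔ (x : G) ∈ N
  card : Nat.card (normalClosure ((P : Subgroup G) : Set G)) = Nat.card T * Nat.card N
  dvd : p ∣ Nat.card T
  ndvd : ¬ p ∣ Nat.card N

theorem exists_top {m : ℕ} (hG : Nat.card G = p * m) (hm : ¬ p ∣ m) (P : Sylow p G) :
    ∃ (N : Subgroup G) (T : Type) (_ : Group T) (_ : Finite T)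
      (f : normalClosure ((P : Subgroup G) : Set G) →* T), Top P N T f := by
  have hP : Nat.card (P : Subgroup G) = p := by
    simpa using Small.card_sylow_subgroup (k := 1) (by simpa using hG) hm P
  have hPK : (P : Subgroup G) ≤ normalClosure ((P : Subgroup G) : Set G) := le_normalClosure
  obtain ⟨N, hN, hNK, T, _, _, k, f, hT, hk, hf, hker, hc⟩ :=
    exists_chief (normalClosure ((P : Subgroup G) : Set G)) (fun h =>
      P.ne_bot_of_dvd_card (hG ▸ dvd_mul_right _ _) (eq_bot_iff.2 (h ▸ hPK)))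
  have h1 : ¬ p ∣ Nat.card N := by
    intro h
    obtain ⟨x, hx⟩ := exists_prime_orderOf_dvd_card' (G := N) p h
    obtain ⟨Q, hQ⟩ := (IsPGroup.of_card (n := 1) (p := p) (G := zpowers (x : G))
      (by rw [Nat.card_zpowers, orderOf_coe, hx, pow_one])).exists_le_sylow
    have h2 : zpowers (x : G) = Q := eq_of_le_of_card_ge hQ (by
      rw [Nat.card_zpowers, orderOf_coe, hx]
      simpa using (Small.card_sylow_subgroup (k := 1) (by simpa using hG) hm Q).le)
    obtain ⟨g, rfl⟩ := MulAction.exists_smul_eq G Q P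
    refine hNK.not_ge (normalClosure_le_normal ?_)
    rintro _ ⟨y, hy, rfl⟩
    exact hN.conj_mem _ ((zpowers_le.2 x.2) (h2 ▸ hy)) g
  have h2 : p ∣ Nat.card T := hp.out.dvd_of_dvd_pow
    (((Nat.Prime.dvd_mul hp.out).1 (hc ▸ hP ▸ card_dvd_of_le hPK)).resolve_right h1)
  obtain rfl : k = 1 := by
    by_contra h
    have h3 : p ^ 2 ∣ p * m := hG ▸ (((pow_dvd_pow_of_dvd h2 2).trans
      (pow_dvd_pow _ (by omega))).mul_right _).trans (hc ▸ card_subgroup_dvd_card _)
    rw [pow_two] at h3
    exact hm (Nat.dvd_of_mul_dvd_mul_left hp.out.pos h3)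
  refine ⟨N, T, _, inferInstance, (MulEquiv.funUnique (Fin 1) T).toMonoidHom.comp f, hN, hNK, hT,
    (MulEquiv.funUnique (Fin 1) T).surjective.comp hf, fun x => ?_, by simpa using hc, h2, h1⟩
  rw [← hker]
  exact map_eq_one_iff _ (MulEquiv.funUnique (Fin 1) T).injective

namespace Top

variable {P : Sylow p G} {N : Subgroup G} {T : Type} [Group T] [Finite T]
  {f : normalClosure ((P : Subgroup G) : Set G) →* T} (h : Top P N T f)
include h

theorem card_eq : Nat.card T * (Nat.card N * (normalClosure ((P : Subgroup G) : Set G)).index) =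
    Nat.card G := by
  rw [← mul_assoc, ← h.card, card_mul_index]

theorem card_dvd : Nat.card T ∣ Nat.card G := Dvd.intro _ h.card_eq

theorem isSimple (hc : Nat.card T = Nat.card G) : IsSimpleGroup G := by
  have h1 := h.card_eq
  rw [hc, Nat.mul_eq_left Nat.card_pos.ne', mul_eq_one, card_eq_one, index_eq_one] at h1
  haveI := h.simple
  have e : normalClosure ((P : Subgroup G) : Set G) ≃* T := MulEquiv.ofBijective f
    ⟨(injective_iff_map_eq_one f).2 fun x hx => by
      have := (h.ker x).1 hx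
      rw [h1.1, mem_bot] at this
      exact Subtype.ext this, h.surj⟩
  exact ((topEquiv.symm.trans (MulEquiv.subgroupCongr h1.2.symm)).trans e).isSimpleGroup

theorem sup_eq (hT : IsMulCommutative T) :
    N ⊔ (P : Subgroup G) = normalClosure ((P : Subgroup G) : Set G) := by
  haveI := h.simple
  haveI := h.normal
  let _ : CommGroup T := { (inferInstance : Group T) with mul_comm := hT.is_comm.comm }
  have h1 := (Nat.prime_dvd_prime_iff_eq hp.out (IsSimpleGroup.prime_card (α := T))).1 h.dvd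
  refine eq_of_le_of_card_ge (sup_le h.lt.le le_normalClosure) ?_
  rw [h.card, ← h1]
  refine Nat.le_of_dvd Nat.card_pos (Nat.Coprime.mul_dvd_of_dvd_of_dvd
    ((Nat.Prime.coprime_iff_not_dvd hp.out).2 h.ndvd) ?_ (card_dvd_of_le le_sup_left))
  refine dvd_trans ?_ (card_dvd_of_le (le_sup_right : (P : Subgroup G) ≤ N ⊔ P))
  exact P.dvd_card_of_dvd_card (h.dvd.trans h.card_dvd)

theorem not_le (hP : ¬ (P : Subgroup G).Normal) (hT : IsMulCommutative T) :
    ¬ N ≤ normalizer ((P : Subgroup G) : Set G) := fun h1 =>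
  hP (normal_of_le_normalizer P _ le_normalClosure (h.sup_eq hT ▸ sup_le h1 le_normalizer))

theorem card_N_dvd {m : ℕ} (hG : Nat.card G = p * m) : Nat.card N ∣ m :=
  (((Nat.Prime.coprime_iff_not_dvd hp.out).2 h.ndvd).symm).dvd_of_dvd_mul_left
    (hG ▸ card_subgroup_dvd_card N)

theorem not_comm {m : ℕ} (hG : Nat.card G = p * m) (hP : ¬ (P : Subgroup G).Normal)
    (hq : ∀ d ∈ Nat.divisors m, d % p = 1 → ¬ IsPrimePow d) : ¬ IsMulCommutative T := by
  intro hT
  haveI := h.normal
  have hm : m ≠ 0 := by rintro rfl; exact Nat.card_pos.ne' hG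
  exact h.not_le hP hT (le_normalizer_of_coprime N h.ndvd P fun d hd h1 h2 =>
    hq d (Nat.mem_divisors.2 ⟨hd.trans (h.card_N_dvd hG), hm⟩) h2 h1)

/-- the exceptional case: a normal abelian Sylow `r`-subgroup -/
theorem not_mem {m r k : ℕ} (hG : Nat.card G = p * m) (hP : ¬ (P : Subgroup G).Normal)
    (hr : r.Prime) (hk : ¬ r ^ (k + 1) ∣ Nat.card G)
    (hq : ∀ d ∈ Nat.divisors m, d % p = 1 → IsPrimePow d → d = r ^ k)
    (hs : ∀ (L : Type) [Group L] [Finite L] [IsSimpleGroup L], Nat.card L ∣ m → IsMulCommutative L)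
    (hT : IsMulCommutative T) : r ∉ degreePrimes G := by
  haveI := h.normal
  haveI := Fact.mk hr
  have hm : m ≠ 0 := by rintro rfl; exact Nat.card_pos.ne' hG
  have h0 := h.not_le hP hT
  obtain ⟨M, hM, hMN, L, _, _, j, g, hL, hj, hg, hker, hc⟩ :=
    exists_chief N (fun h1 => h0 (h1 ▸ bot_le))
  have hNm := h.card_N_dvd hG
  have hLc := hs L (((dvd_pow_self _ hj.ne').mul_right _).trans (hc ▸ hNm))
  let _ : CommGroup L := { (inferInstance : Group L) with mul_comm := hLc.is_comm.comm }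
  have hLp := IsSimpleGroup.prime_card (α := L)
  let π := QuotientGroup.mk' M
  have hπ : Function.Surjective π := QuotientGroup.mk'_surjective M
  haveI : (N.map π).Normal := Normal.map inferInstance π hπ
  have hc' : Nat.card (N.map π) = Nat.card L ^ j := by
    have := Grp.card_comap_mk' M (N.map π)
    rw [comap_map_eq, QuotientGroup.ker_mk', sup_eq_left.2 hMN.le, hc] at this
    exact (Nat.eq_of_mul_eq_mul_right Nat.card_pos this).symm
  have hd' : Nat.card (N.map π) ∣ Nat.card N := card_map_dvd N π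
  have h1 : ¬ N.map π ≤ normalizer
      (((P.mapSurjective hπ : Sylow p (G ⧸ M)) : Subgroup (G ⧸ M)) : Set (G ⧸ M)) := by
    intro h1
    haveI : (normalClosure ((P : Subgroup G) : Set G)).map π |>.Normal :=
      Normal.map inferInstance π hπ
    haveI := normal_of_le_normalizer (P.mapSurjective hπ)
      ((normalClosure ((P : Subgroup G) : Set G)).map π) (map_mono le_normalClosure) (by
        rw [← h.sup_eq hT, Subgroup.map_sup]
        exact sup_le h1 le_normalizer)
    have h2 : normalClosure ((P : Subgroup G) : Set G) ≤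
        ((P.mapSurjective hπ : Sylow p (G ⧸ M)) : Subgroup (G ⧸ M)).comap π :=
      normalClosure_le_normal (le_comap_map π _)
    obtain ⟨i, hi⟩ := ((P.mapSurjective hπ).isPGroup'.to_le
      (map_le_iff_le_comap.2 (h.lt.le.trans h2))).exists_card_eq
    rcases Nat.eq_zero_or_pos i with rfl | hi0
    · rw [pow_zero, hc', Nat.pow_eq_one] at hi
      exact hi.elim hLp.ne_one hj.ne'
    · exact h.ndvd ((hi ▸ dvd_pow_self p hi0.ne').trans hd')
  obtain ⟨s, hs, h2⟩ := Nat.exists_prime_and_dvd (mt relIndex_eq_one.1 h1)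
  obtain ⟨i, h3, h4, h5⟩ := exists_pow_of_dvd_relIndex _ (fun h6 => h.ndvd (h6.trans hd')) _ hs h2
  have h6 := hq _ (Nat.mem_divisors.2 ⟨h4.trans (hd'.trans hNm), hm⟩) h5 ⟨s, i, hs.prime, h3, rfl⟩
  have hk0 : k ≠ 0 := by
    rintro rfl
    rw [pow_zero, Nat.pow_eq_one] at h6
    exact h6.elim hs.ne_one h3.ne'
  rw [h6, hc'] at h4
  obtain rfl : r = Nat.card L := (Nat.prime_dvd_prime_iff_eq hr hLp).1
    (hr.dvd_of_dvd_pow ((dvd_pow_self r hk0).trans h4))
  have hNG := card_subgroup_dvd_card N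
  obtain rfl : k = j := le_antisymm ((Nat.pow_dvd_pow_iff_le_right hr.one_lt).1 h4)
    (le_of_not_gt fun h7 => hk (((pow_dvd_pow _ h7).mul_right _).trans (hc ▸ hNG)))
  have hrM : ¬ Nat.card L ∣ Nat.card M := fun h7 =>
    hk (by rw [pow_succ]; exact (mul_dvd_mul_left _ h7).trans (hc ▸ hNG))
  have hpM : ¬ p ∣ Nat.card M := fun h7 => h.ndvd (h7.trans (card_dvd_of_le hMN.le))
  have h7 := h.lt.le.trans (le_centralizer_of_coprime M hpM P (le_normalizer_of_coprime M hpM P
    fun d hd h8 h9 => hrM ((dvd_pow_self _ hk0).trans ((hq d (Nat.mem_divisors.2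
      ⟨hd.trans ((card_dvd_of_le hMN.le).trans hNm), hm⟩) h9 h8) ▸ hd))))
  obtain ⟨R⟩ : Nonempty (Sylow (Nat.card L) N) := inferInstance
  have hR : Nat.card (R : Subgroup N) = Nat.card L ^ k := Small.card_sylow_subgroup hc hrM R
  have hMc : Nat.card (M.subgroupOf N) = Nat.card M :=
    Nat.card_congr (subgroupOfEquivOfLe hMN.le).toEquiv
  have hcop : (Nat.card (R : Subgroup N)).Coprime (Nat.card (M.subgroupOf N)) := by
    rw [hR, hMc]; exact ((Nat.Prime.coprime_iff_not_dvd hr).2 hrM).pow_left k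
  haveI : (R : Subgroup N).Normal := by
    rw [← normalizer_eq_top_iff, eq_top_iff]
    have h8 : (R : Subgroup N) ⊔ M.subgroupOf N = ⊤ := by
      refine eq_top_of_card_eq _ (Nat.dvd_antisymm (card_subgroup_dvd_card _) ?_)
      rw [hc, ← hR, ← hMc]
      exact hcop.mul_dvd_of_dvd_of_dvd (card_dvd_of_le le_sup_left) (card_dvd_of_le le_sup_right)
    rw [← h8]
    refine sup_le le_normalizer fun x hx => centralizer_le_normalizer _ fun y _ => ?_
    exact Subtype.ext (h7 y.2 x hx).symm
  haveI := R.characteristic_of_normal inferInstance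
  haveI := Grp.normal_map_subtype_of_characteristic N R
  haveI : IsMulCommutative ((R : Subgroup N).map N.subtype) := by
    refine ⟨⟨?_⟩⟩
    rintro ⟨_, a, ha, rfl⟩ ⟨_, b, hb, rfl⟩
    have h8 : a * b * (b * a)⁻¹ ∈ (R : Subgroup N) ⊓ M.subgroupOf N :=
      ⟨(R : Subgroup N).mul_mem ((R : Subgroup N).mul_mem ha hb)
        ((R : Subgroup N).inv_mem ((R : Subgroup N).mul_mem hb ha)),
        (hker (a * b * (b * a)⁻¹)).1 (by
          rw [map_mul, map_inv, map_mul, map_mul, mul_comm (g a), mul_inv_cancel])⟩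
    rw [(disjoint_of_coprime_natCard hcop).eq_bot, mem_bot, mul_inv_eq_one] at h8
    exact Subtype.ext (congrArg N.subtype h8)
  intro h8
  have h9 := dvd_index_of_mem_primes h8 ((R : Subgroup N).map N.subtype)
  refine hk ?_
  rw [← ((R : Subgroup N).map N.subtype).card_mul_index, card_subtype, hR, pow_succ]
  exact mul_dvd_mul_left _ h9

end Top

end Cfsg.Agent.DegG
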