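import Mathlib
import Cfsg.Agent.DegG.Base
import Cfsg.Agent.Char.Degrees
import Cfsg.Agent.Char.DegreeP
import Cfsg.Agent.Char.Gallagher
import Cfsg.Agent.Char.Restrict
import Cfsg.Agent.KSG.PSL2
import Cfsg.Agent.S0088
import Cfsg.Agent.S0494
import Cfsg.Agent.S0886
import Cfsg.Agent.S2300

/-!
A group of order 360 with a chief factor `A₅`, an irreducible character of degree 10, has one of
degree divisible by 6.
-/

set_option autoImplicit false
set_option linter.style.haveILetI false
set_option linter.unusedSectionVars false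

namespace Cfsg.Agent.DegG

open Subgroup Cfsg.Agent.Char
open scoped MatrixGroups

variable {G : Type*} [Group G] [Finite G]

theorem sl_equiv {F : Type*} [Field F] [CharP F 2] : Nonempty (SL(2, F) ≃* PSL(2, F)) := by
  refine ⟨MulEquiv.ofBijective (QuotientGroup.mk' (center SL(2, F)))
    ⟨(injective_iff_map_eq_one _).2 fun g hg => ?_, QuotientGroup.mk'_surjective _⟩⟩
  rw [QuotientGroup.mk'_apply, QuotientGroup.eq_one_iff,
    Matrix.SpecialLinearGroup.mem_center_iff] at hg
  obtain ⟨r, hr, e⟩ := hg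
  have h1 : r = 1 := by
    rw [Fintype.card_fin] at hr
    have h2 : (r - 1) ^ 2 = 0 := by
      rw [sub_pow_char, hr, one_pow, sub_self]
    exact sub_eq_zero.1 (pow_eq_zero_iff two_ne_zero |>.1 h2)
  apply Subtype.ext
  rw [← e, h1, map_one]; rfl

theorem card_deg_equiv {H : Type*} [Group H] (e : G ≃* H) (c : ℂ) :
    Nat.card {χ : IrrCharacter G // (χ : G → ℂ) 1 = c} =
      Nat.card {χ : IrrCharacter H // (χ : H → ℂ) 1 = c} :=
  (Nat.card_congr ((irrCongr e).subtypeEquiv fun χ => by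
    change _ ↔ (χ : H → ℂ) (e 1) = c
    rw [map_one])).symm

theorem card_deg_60 [IsSimpleGroup G] (h : Nat.card G = 60) :
    Nat.card {χ : IrrCharacter G // (χ : G → ℂ) 1 = 5} = 1 ∧
      Nat.card {χ : IrrCharacter G // (χ : G → ℂ) 1 = 3} = 2 := by
  haveI := Fintype.ofFinite (GaloisField 2 2)
  have hF : Nat.card (GaloisField 2 2) = 4 := GaloisField.card 2 2 (by norm_num)
  haveI := Matrix.ProjectiveSpecialLinearGroup.rank_two_simple hF.ge
  obtain ⟨e1⟩ := S0494.result h
  obtain ⟨e2⟩ := S0494.result (G := PSL(2, GaloisField 2 2)) (by rw [KSG.M2.card_PSL2, hF]; norm_num)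
  obtain ⟨e3⟩ := sl_equiv (F := GaloisField 2 2)
  rw [Nat.card_eq_fintype_card] at hF
  obtain ⟨-, -, h1, h2⟩ := (S2300.result (F := GaloisField 2 2)).2 hF.ge
  rw [hF] at h1 h2
  rw [card_deg_equiv (e1.trans (e2.symm.trans e3.symm)),
    card_deg_equiv (e1.trans (e2.symm.trans e3.symm)),
    show (5 : ℂ) = ((4 : ℕ) : ℂ) + 1 by norm_num, show (3 : ℂ) = ((4 : ℕ) : ℂ) - 1 by norm_num]
  exact ⟨h1, h2⟩

theorem index_six (K : Subgroup G) [K.Normal] [IsSimpleGroup K] (hK : Nat.card K = 60)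
    (hi : K.index = 6) (h6 : ∀ d ∈ charDegrees G, ¬ 6 ∣ d) {χ : G → ℂ} (hχ : IsIrrCharacter G χ)
    (h10 : χ 1 = 10) [Fintype K] {ψ : K → ℂ} (hψ : IsIrrCharacter K ψ) (h5 : ψ 1 = 5)
    (h : classInner (fun x : K => χ x) ψ ≠ 0) : False := by
  classical
  haveI := Fintype.ofFinite G
  obtain ⟨c5, c3⟩ := card_deg_60 hK
  have hq : Nat.card (G ⧸ K) = 6 := hi
  by_cases hc : ∀ a b : G ⧸ K, a * b = b * a
  · let _ : CommGroup (G ⧸ K) := { (inferInstance : Group (G ⧸ K)) with mul_comm := hc }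
    haveI : IsZGroup (G ⧸ K) := IsZGroup.of_squarefree (by rw [hq]; decide +kernel)
    obtain ⟨η, hη, h1⟩ := S0886.result K inferInstance ψ hψ fun g n => congrFun (congrArg
      (fun x : {χ : IrrCharacter K // (χ : K → ℂ) 1 = 5} => (x.1 : K → ℂ))
      ((Nat.card_eq_one_iff_unique.1 c5).1.elim ⟨⟨_, hψ.conjChar g⟩,
        (conjChar_apply_one K ψ g).trans h5⟩ ⟨⟨_, hψ⟩, h5⟩)) n
    have h2 : (fun n : K => η n) = ψ := funext h1
    obtain ⟨β, hβ, h3, h4⟩ := gallagher_surj hη.isCharacter (h2 ▸ hψ) hχ (h2 ▸ h)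
    obtain ⟨β', h7⟩ := exists_irr_deflation K hβ fun n hn => h3 ⟨n, hn⟩
    have h8 := (charDegree_eq_one_iff β'.2.isCharacter).1 (charDegree_eq_one_of_comm hc β')
    have h9 := congrFun h4 1
    rw [Pi.mul_apply, ← h7, QuotientGroup.mk_one, h8, h10, show η 1 = ψ 1 from h1 1, h5] at h9
    norm_num at h9
  · push Not at hc
    obtain ⟨β, hβ⟩ := exists_charDegree_ne_one hc
    have hβ2 : charDegree (β : G ⧸ K → ℂ) = 2 := by
      have h1 := (charDegree_sq_le_index_center β).trans (Nat.le_of_dvd Nat.card_pos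
        (index_dvd_card _))
      have h2 := charDegree_irr_pos β
      rw [hq] at h1
      have : charDegree (β : G ⧸ K → ℂ) < 3 := by nlinarith
      omega
    obtain ⟨⟨θ, hθ⟩⟩ : Nonempty {χ : IrrCharacter K // (χ : K → ℂ) 1 = 3} :=
      (Nat.card_pos_iff.1 (by omega)).1
    have hθ' : charDegree (θ : K → ℂ) = 3 := charDegree_eq_of_one_eq (by exact_mod_cast hθ)
    obtain ⟨η, hη, h1⟩ := exists_irr_over K θ.2
    obtain ⟨e, he, he'⟩ := exists_deg_eq_mul_dvd_index K θ.2 hη h1
    obtain ⟨a, -, ha, ha'⟩ := exists_charDegree_eq_of_over K hη θ.2 h1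
    have h2 : charDegree η = e * 3 := charDegree_eq_of_one_eq (by rw [he, hθ]; push_cast; rfl)
    have h3 := h6 _ ⟨⟨η, hη⟩, h2⟩
    have h4 : (inertia K (θ : K → ℂ)).index ≤ 2 := by
      rw [← card_conjugates, ← c3, ← Nat.card_eq_finsetCard]
      refine Nat.card_le_card_of_injective (fun φ => ⟨⟨φ.1, ?_⟩, ?_⟩) fun φ φ' h =>
        Subtype.ext (congrArg (fun x : {χ : IrrCharacter K // (χ : K → ℂ) 1 = 3} =>
          (x.1 : K → ℂ)) h)
      · obtain ⟨g, hg⟩ := (mem_conjugates K).1 φ.2
        exact hg ▸ θ.2.conjChar g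
      · obtain ⟨g, hg⟩ := (mem_conjugates K).1 φ.2
        change φ.1 1 = 3
        rw [← hg, conjChar_apply_one, hθ]
    have h7 : a ^ 2 * (inertia K (θ : K → ℂ)).index ≤ 6 := by
      have h8 := inner_restrict_re_le K η
      rw [clifford_inner_self K hη θ.2 h1, ha, hη.inner_self, hi] at h8
      exact_mod_cast h8
    rw [hθ', h2] at ha'
    rw [hi] at he'
    have h8 : e = 1 := by
      have : e ≤ 6 := Nat.le_of_dvd (by norm_num) he'
      have h9 : e = a * (inertia K (θ : K → ℂ)).index := by omega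
      generalize (inertia K (θ : K → ℂ)).index = t at *
      have : e = 1 ∨ e = 3 := by clear h9 ha'; interval_cases e <;> omega
      rcases this with h | rfl
      · exact h
      · interval_cases t
        · omega
        · obtain rfl : a = 3 := by omega
          omega
        · omega
    have h9 := restrict_eq_of_over_of_le K hη.isCharacter θ.2 h1 (by omega)
    have h11 := gallagher_isIrr hη.isCharacter (h9 ▸ θ.2)
      (inflateIrr _ (QuotientGroup.mk'_surjective K) β).2 fun n => by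
        change (β : G ⧸ K → ℂ) (n : G) = (β : G ⧸ K → ℂ) (1 : G)
        rw [(QuotientGroup.eq_one_iff _).2 n.2, QuotientGroup.mk_one]
    refine h6 _ ⟨⟨_, h11⟩, charDegree_eq_of_one_eq (n := 6) ?_⟩ dvd_rfl
    change (β : G ⧸ K → ℂ) 1 * η 1 = _
    rw [← coe_charDegree_irr, hβ2, he, hθ, h8]
    norm_num

theorem Top.perfect {p m : ℕ} [hp : Fact p.Prime] {P : Sylow p G} {N : Subgroup G} {T : Type}
    [Group T] [Finite T] {f : normalClosure ((P : Subgroup G) : Set G) →* T} (h : Top P N T f)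
    (hG : Nat.card G = p * m) (hm : ¬ p ∣ m) (hT : ¬ IsMulCommutative T) :
    _root_.commutator (normalClosure ((P : Subgroup G) : Set G)) = ⊤ := by
  haveI := h.simple
  let K := normalClosure ((P : Subgroup G) : Set G)
  haveI := Grp.normal_map_subtype_of_characteristic K (_root_.commutator K)
  have h1 : p ∣ Nat.card ((_root_.commutator K).map K.subtype) := by
    rw [card_subtype]
    refine h.dvd.trans (dvd_trans ?_ (card_map_dvd _ f))
    rw [map_commutator_eq, MonoidHom.range_eq_top.2 h.surj, ← commutator_def,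
      Small.commutator_eq_top hT, card_top]
  have h2 : ¬ p ∣ ((_root_.commutator K).map K.subtype).index := fun h2 => hm
    (Nat.dvd_of_mul_dvd_mul_left hp.out.pos (by
      rw [← hG, ← card_mul_index ((_root_.commutator K).map K.subtype)]
      exact mul_dvd_mul h1 h2))
  have h3 : (P : Subgroup G) ≤ (_root_.commutator K).map K.subtype := by
    obtain ⟨k, hk⟩ := P.isPGroup'.exists_card_eq
    exact relIndex_eq_one.1 (Nat.eq_one_of_dvd_coprimes
      (((Nat.Prime.coprime_iff_not_dvd hp.out).2 h2).pow_left k) (hk ▸ relIndex_dvd_card _ _)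
      (relIndex_dvd_index_of_normal _ _))
  rw [eq_top_iff]
  intro x _
  obtain ⟨y, hy, h4⟩ := normalClosure_le_normal h3 x.2
  exact (Subtype.ext h4 : y = x) ▸ hy

theorem Top.not_sixty [Fact (Nat.Prime 5)] {P : Sylow 5 G} {N : Subgroup G} {T : Type}
    [Group T] [Finite T] {f : normalClosure ((P : Subgroup G) : Set G) →* T} (h : Top P N T f)
    (hG : Nat.card G = 360) (hT : Nat.card T = 60) (h10 : ∃ d ∈ charDegrees G, 10 ∣ d)
    (h6 : ∀ d ∈ charDegrees G, ¬ 6 ∣ d) : False := by
  haveI := h.simple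
  haveI := h.normal
  have hperf := h.perfect (m := 72) hG (by norm_num)
    (Small.not_comm_of_card (by rw [hT]; norm_num))
  let K := normalClosure ((P : Subgroup G) : Set G)
  have hc : Nat.card N * K.index = 6 := by
    have := h.card_eq
    rw [hT, hG] at this
    change 60 * (Nat.card N * K.index) = 360 at this
    omega
  have hK : Nat.card K = 60 * Nat.card N := hT ▸ h.card
  have hNK : N ≤ K := h.lt.le
  have hcent : K ≤ centralizer (N : Set G) :=
    le_centralizer_of_coprime N h.ndvd P (le_normalizer_of_coprime N h.ndvd P fun d hd h1 h2 =>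
      (by decide +kernel : ∀ d ∈ Nat.divisors 6, d % 5 = 1 → ¬ IsPrimePow d) d
        (Nat.mem_divisors.2 ⟨hd.trans ⟨_, hc.symm⟩, by norm_num⟩) h2 h1)
  have hZ : N.subgroupOf K ≤ center K := fun x hx => mem_center_iff.2 fun y =>
    Subtype.ext (hcent y.2 x hx).symm
  have hNc : Nat.card (N.subgroupOf K) = Nat.card N :=
    Nat.card_congr (subgroupOfEquivOfLe hNK).toEquiv
  have hZi : (center K).index ≤ 60 := by
    have h1 := (N.subgroupOf K).card_mul_index
    rw [hNc, hK, mul_comm] at h1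
    exact Nat.le_of_dvd (by norm_num)
      (Nat.eq_of_mul_eq_mul_right Nat.card_pos h1 ▸ index_dvd_of_le hZ)
  obtain ⟨_, ⟨χ, rfl⟩, h1⟩ := h10
  have h2 : charDegree (χ : G → ℂ) = 10 := by
    have h3 := (charDegree_sq_le_index_center χ).trans (Nat.le_of_dvd Nat.card_pos
      (index_dvd_card _))
    have h4 := charDegree_irr_pos χ
    rw [hG] at h3
    have : charDegree (χ : G → ℂ) < 20 := by nlinarith
    omega
  haveI := Fintype.ofFinite G
  haveI := Fintype.ofFinite K
  obtain ⟨ψ, hψ, h3⟩ := exists_irr_inner_restrict_ne_zero K χ.2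
  obtain ⟨e, he, he'⟩ := exists_deg_eq_mul_dvd_index K hψ χ.2 h3
  have h4 := (charDegree_sq_le_index_center ⟨ψ, hψ⟩).trans hZi
  have h5 : 10 = e * charDegree ψ := by
    rw [← h2]
    exact charDegree_eq_of_one_eq (by
      rw [he, Nat.cast_mul, coe_charDegree_of_isCharacter hψ.isCharacter])
  change charDegree ψ ^ 2 ≤ 60 at h4
  have h7 : e = 2 ∧ charDegree ψ = 5 := by
    have h8 := he'.trans (Dvd.intro_left _ hc)
    have : e ≤ 6 := Nat.le_of_dvd (by norm_num) h8
    have : charDegree ψ < 8 := by nlinarith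
    interval_cases e <;> omega
  obtain ⟨rfl, h7⟩ := h7
  have hN : Nat.card N = 1 ∨ Nat.card N = 3 := by
    obtain ⟨j, hj⟩ := he'
    rw [hj] at hc
    exact (Nat.dvd_prime Nat.prime_three).1 ⟨j, by linarith⟩
  rcases hN with hN | hN
  · have e : K ≃* T := MulEquiv.ofBijective f ((Nat.bijective_iff_surjective_and_card _).2
      ⟨h.surj, by rw [hT, hK, hN]⟩)
    haveI := e.isSimpleGroup
    refine index_six K (by omega) (by rw [hN] at hc; omega) h6 χ.2 ?_ hψ ?_ h3
    · rw [← coe_charDegree_irr, h2]; rfl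
    · rw [← coe_charDegree_of_isCharacter hψ.isCharacter, h7]; rfl
  · haveI : Fact (Nat.Prime 3) := ⟨Nat.prime_three⟩
    obtain ⟨Q⟩ : Nonempty (Sylow 3 K) := inferInstance
    have h8 : Nat.card K = 3 ^ 2 * 20 := by omega
    have h9 := Small.card_sylow_subgroup h8 (by norm_num) Q
    have h11 := S0088.result (Q : Subgroup K) (IsPGroup.isMulCommutative_of_card_eq_prime_sq h9)
      Q.card_coprime_index
    have h12 : N.subgroupOf K ≤ Q :=
      (IsPGroup.of_card (n := 1) (by rw [hNc, hN, pow_one])).le_sylow_of_normal Q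
    have h13 : N.subgroupOf K = ⊥ :=
      eq_bot_iff.2 (h11 ▸ le_inf (le_inf h12 (hperf ▸ le_top)) hZ)
    rw [h13, card_bot] at hNc
    omega

end Cfsg.Agent.DegG
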